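import Cfsg.Agent.Lib.PS4.Tools
import Cfsg.Agent.Lib.FW.Fus

/-! # Automorphisms of `SL₂(q)` -/

set_option autoImplicit false

namespace H73.LU

open scoped MatrixGroups

variable {F : Type*} [Field F] [Fintype F]

/-- An involutory automorphism which fixes no element of order four and inverts `l`. -/
structure DA (τ : MulAut SL(2, F)) (l : SL(2, F)) : Prop where
  odd : Odd (Fintype.card F)
  big : 3 < Fintype.card F
  sq : τ * τ = 1
  no4 : ∀ x, τ x = x → x * x ≠ -1
  l2 : l * l = -1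
  tl : τ l = -l

namespace AUT

open H52.FW H52.FW.Fus Matrix

theorem exists_ac (hF : Odd (Fintype.card F)) (α : MulAut SL(2, F)) : ∃ g σ, H47.QF.Ac α g σ := by
  obtain ⟨⟨g, σ⟩, hγ⟩ := H46.Q.sl_aut (by rwa [Nat.card_eq_fintype_card]) α
  exact ⟨g, σ, fun x => SemidirectProduct.inl_injective (by
    have := hγ x
    rwa [H46.Q.iotaF_apply, H46.Q.iotaF_apply, H46.Q.gam_conj] at this)⟩

omit [Fintype F]

theorem ac_val {α : MulAut SL(2, F)} {g : GL (Fin 2) F} {σ : RingAut F} (h : H47.QF.Ac α g σ)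
    (x : SL(2, F)) : (α x).1 * g.1 = g.1 * x.1.map σ :=
  congrArg Units.val (eq_mul_inv_iff_mul_eq.1 (h x))

variable {g m : M2 F} {a b : F}

theorem lin (h2 : (2 : F) ≠ 0) (hg : g.det ≠ 0) (t : g.trace = 0) (e : m * g = g * m) :
    ∃ a b : F, m = a • (1 : M2 F) + b • g :=
  H46.Q.eq_of_comm_nonscalar (fun ⟨e1, e2, e3⟩ => hg (by
    rw [trace_fin_two, ← e3] at t
    have : g 0 0 = 0 := mul_left_cancel₀ h2 (by linear_combination t)
    rw [det_fin_two, e1, this]; ring)) e.symm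

theorem det_lin (t : g.trace = 0) (a b : F) :
    (a • (1 : M2 F) + b • g).det = a ^ 2 + b ^ 2 * g.det := by
  rw [trace_fin_two] at t
  simp [det_fin_two]
  linear_combination a * b * t

theorem tr_lin (t : g.trace = 0) (a b : F) : (a • (1 : M2 F) + b • g).trace = 2 * a := by
  rw [trace_add, trace_smul, trace_smul, t, trace_one]
  simp [mul_comm]

theorem comm_lin (hb : b ≠ 0) (e : m * (a • (1 : M2 F) + b • g) = (a • (1 : M2 F) + b • g) * m) :
    m * g = g * m := by
  simp only [mul_add, add_mul, mul_smul_comm, smul_mul_assoc, mul_one, one_mul, add_right_inj] at e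
  exact smul_right_injective _ hb e

theorem pm_of {x : SL(2, F)} (e : x.1 = a • (1 : M2 F)) : x = 1 ∨ x = -1 := by
  have d := x.2
  rw [e, det_smul, det_one, Fintype.card_fin, mul_one, sq_eq_one_iff] at d
  exact d.imp (fun h => Subtype.ext (by rw [e, h, one_smul]; rfl))
    fun h => Subtype.ext (by rw [e, h, neg_smul, one_smul]; rfl)

theorem not_pm {x : SL(2, F)} (h2 : (2 : F) ≠ 0) (hg : g.det ≠ 0) (t : g.trace = 0) (hb : b ≠ 0)
    (e : x.1 = a • (1 : M2 F) + b • g) : x * x ≠ 1 := fun h => by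
  have d := x.2
  have k := tr_lin t a b
  rw [e, det_lin t] at d
  rw [← e] at k
  refine mul_ne_zero (pow_ne_zero 2 hb) hg ?_
  rcases eq_or h2 h with rfl | rfl
  · have : a = 1 := mul_left_cancel₀ h2 (by rw [← k, val_one, trace_one]; simp)
    rw [this] at d; linear_combination d
  · have : a = -1 := mul_left_cancel₀ h2 (by rw [← k, val_neg, val_one, trace_neg, trace_one]; simp)
    rw [this] at d; linear_combination d

/-- the element `(t + g)² / N(t + g)` -/
theorem exists_el (t : g.trace = 0) {s : F} (hs : s ^ 2 + g.det ≠ 0) : ∃ x : SL(2, F),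
    x.1 = ((s ^ 2 - g.det) / (s ^ 2 + g.det)) • (1 : M2 F) + (2 * s / (s ^ 2 + g.det)) • g :=
  ⟨⟨_, by rw [det_lin t]; field_simp; ring⟩, rfl⟩

theorem exists_s [Fintype F] (h3 : 3 < Fintype.card F) (D : F) : ∃ s : F, s ≠ 0 ∧ s ^ 2 + D ≠ 0 := by
  classical
  by_cases h : ∃ r : F, r ^ 2 + D = 0
  swap
  · exact ⟨1, one_ne_zero, fun e => h ⟨1, e⟩⟩
  obtain ⟨r, hr⟩ := h
  obtain ⟨s, hs⟩ : ∃ s, s ∉ ({0, r, -r} : Finset F) := by
    by_contra n
    push Not at n
    have := Finset.card_le_card (fun s _ => n s : Finset.univ ⊆ ({0, r, -r} : Finset F))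
    have := this.trans Finset.card_le_three
    rw [Finset.card_univ] at this
    omega
  simp only [Finset.mem_insert, Finset.mem_singleton, not_or] at hs
  exact ⟨s, hs.1, fun e => (sq_eq_sq_iff_eq_or_eq_neg.1 (by linear_combination e - hr)).elim
    hs.2.1 hs.2.2⟩

end AUT

open AUT H52.FW H52.FW.Fus Matrix

namespace DA

variable {τ : MulAut SL(2, F)} {l : SL(2, F)} (a : DA τ l)
include a

theorem two : (2 : F) ≠ 0 := H64.SL2.two_ne_zero_of_odd a.odd

theorem exists_g : ∃ g : M2 F, g.det ≠ 0 ∧ g.trace = 0 ∧ (∀ x, τ x = x ↔ x.1 * g = g * x.1) ∧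
    l.1 * g = -(g * l.1) := by
  rcases dich a.odd a.sq with ⟨g, h1, h2, h3⟩ | ⟨u, v, n, k1, k2, -, -, -, -, k7⟩
  · refine ⟨g, h1, h2, fun x => ⟨fun e => by rw [← h3, e], fun e =>
      Subtype.ext (cancel_right h1 (by rw [h3, e]))⟩, ?_⟩
    rw [← h3, a.tl, val_neg, neg_mul, neg_neg]
  · exact absurd k7 (a.no4 _ (by rw [map_mul, map_mul, k1, k2]))

theorem ab {x y : SL(2, F)} (hx : τ x = x) (hy : τ y = y) : x * y = y * x := by
  obtain ⟨g, h1, h2, h3, -⟩ := a.exists_g
  exact Subtype.ext (comm_of_comm a.two h1 h2 ((h3 x).1 hx) ((h3 y).1 hy))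

theorem inv {x : SL(2, F)} (hx : τ x = x) : l * x * l⁻¹ = x⁻¹ := by
  obtain ⟨g, h1, h2, h3, h4⟩ := a.exists_g
  obtain ⟨c, b, e⟩ := lin a.two h1 h2 ((h3 x).1 hx)
  have d := x.2
  rw [e, det_lin h2] at d
  rw [mul_inv_eq_iff_eq_mul, eq_inv_mul_iff_mul_eq]
  refine Subtype.ext ?_
  rw [val_mul, val_mul, e]
  have k : g * (g * l.1) = -g.det • l.1 := by rw [← mul_assoc, sq_of_tr h2, smul_mul_assoc, one_mul]
  simp only [mul_add, add_mul, mul_smul_comm, smul_mul_assoc, mul_one, one_mul, h4, mul_neg, k]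
  calc _ = (c ^ 2 + b ^ 2 * g.det) • l.1 := by module
    _ = _ := by rw [d, one_smul]

theorem odd_sq {x : SL(2, F)} (hx : τ x = x) : Odd (orderOf (x * x)) := by
  rw [← Nat.not_even_iff_odd]
  rintro ⟨m, e⟩
  have p : 0 < orderOf (x * x) := orderOf_pos _
  have h1 : (x * x) ^ m * (x * x) ^ m = 1 := by rw [← pow_add, ← e, pow_orderOf_eq_one]
  rcases eq_or a.two h1 with k | k
  · exact pow_ne_one_of_lt_orderOf (by omega) (by omega) k
  · exact a.no4 (x ^ m) (by rw [map_pow, hx]) (by rw [← k, (Commute.refl x).mul_pow])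

theorem odd_or {x : SL(2, F)} (hx : τ x = x) : Odd (orderOf x) ∨ Odd (orderOf (x * -1)) := by
  have o := a.odd_sq hx
  have h1 := pow_orderOf_eq_one (x * x)
  generalize orderOf (x * x) = m at o h1
  rw [(Commute.refl x).mul_pow] at h1
  exact (eq_or a.two h1).imp (fun k => o.of_dvd_nat (orderOf_dvd_of_pow_eq_one k)) fun k =>
    o.of_dvd_nat (orderOf_dvd_of_pow_eq_one (by rw [mul_neg_one, o.neg_pow, k, neg_neg]))

theorem ex : ∃ t, τ t = t ∧ t ≠ 1 ∧ Odd (orderOf t) := by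
  obtain ⟨g, h1, h2, h3, -⟩ := a.exists_g
  obtain ⟨s, s0, hs⟩ := exists_s a.big g.det
  obtain ⟨x, e⟩ := exists_el h2 hs
  have hx : τ x = x := (h3 x).2 (by simp [e, mul_add, add_mul])
  exact ⟨x * x, by rw [map_mul, hx],
    not_pm a.two h1 h2 (div_ne_zero (mul_ne_zero a.two s0) hs) e, a.odd_sq hx⟩

theorem cen {x y : SL(2, F)} (hx : τ x = x) (h1 : x ≠ 1) (h2 : x ≠ -1) (c : y * x = x * y) :
    τ y = y := by
  obtain ⟨g, k1, k2, k3, -⟩ := a.exists_g
  obtain ⟨s, b, e⟩ := lin a.two k1 k2 ((k3 x).1 hx)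
  refine (k3 y).2 (comm_lin (a := s) (b := b) (fun hb => ?_) (e ▸ congrArg Subtype.val c))
  rw [hb, zero_smul, add_zero] at e
  exact (pm_of e).elim h1 h2

theorem nop {x : SL(2, F)} (hx : τ x = x) (e : x ^ ringChar F = 1) : x = 1 := by
  obtain ⟨g, k1, k2, k3, -⟩ := a.exists_g
  obtain ⟨s, b, e1⟩ := lin a.two k1 k2 ((k3 x).1 hx)
  have : Fact (ringChar F).Prime := ⟨CharP.char_is_prime F _⟩
  have h1 : (x.1 - 1) ^ ringChar F = 0 := by
    rw [sub_pow_char_of_commute _ (Commute.one_right _), one_pow, sub_eq_zero]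
    exact congrArg Subtype.val e
  have h2 := congrArg det h1
  rw [det_pow, det_zero, pow_eq_zero_iff (Fact.out : (ringChar F).Prime).ne_zero,
    show x.1 - 1 = (s - 1) • (1 : M2 F) + b • g by rw [e1]; module, det_lin k2] at h2
  have d := x.2
  rw [e1, det_lin k2] at d
  have h3 : s = 1 := mul_left_cancel₀ a.two (by linear_combination d - h2)
  have h4 : b = 0 := pow_eq_zero_iff two_ne_zero |>.1
    ((mul_eq_zero.1 (show b ^ 2 * g.det = 0 by rw [h3] at d; linear_combination d)).resolve_right k1)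
  exact Subtype.ext (by rw [e1, h3, h4, zero_smul, add_zero, one_smul]; rfl)

theorem fix (θ : MulAut SL(2, F)) (h1 : ∀ x, τ x = x → θ x = x) (h2 : θ l = l) (x : SL(2, F)) :
    θ x = x := by
  obtain ⟨g, k1, k2, k3, k4⟩ := a.exists_g
  obtain ⟨m, σ, hm⟩ := exists_ac a.odd θ
  have two := a.two
  have A : ∀ s : F, σ (s ^ 2 / g.det) = s ^ 2 / g.det := fun s => by
    by_cases hs : s ^ 2 + g.det = 0
    · rw [show s ^ 2 / g.det = -1 by field_simp; linear_combination hs, map_neg, map_one]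
    obtain ⟨y, e⟩ := exists_el k2 hs
    have t := hm.tr y
    rw [h1 y ((k3 y).2 (by simp [e, mul_add, add_mul])), H64.SL2.tr_eq_trace, e, tr_lin k2] at t
    have e3 : s ^ 2 / g.det = (2 + 2 * ((s ^ 2 - g.det) / (s ^ 2 + g.det))) /
        (2 - 2 * ((s ^ 2 - g.det) / (s ^ 2 + g.det))) := by
      field_simp
      ring_nf
      field_simp
    rw [e3, map_div₀, map_add, map_sub, ← t, map_ofNat]
  have B : σ = 1 := RingEquiv.ext fun s => by
    have e : s = ((s + 1) ^ 2 / g.det - s ^ 2 / g.det - 1 ^ 2 / g.det) / (2 * (1 ^ 2 / g.det)) := by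
      field_simp
      ring
    show σ s = s
    rw [e, map_div₀, map_sub, map_sub, map_mul, A, A, A, map_ofNat]
  subst B
  have E : ∀ y, (θ y).1 * m.1 = m.1 * y.1 := ac_val hm
  obtain ⟨s, s0, hs⟩ := exists_s a.big g.det
  obtain ⟨y, e⟩ := exists_el k2 hs
  have e1 := E y
  rw [h1 y ((k3 y).2 (by simp [e, mul_add, add_mul])), e] at e1
  obtain ⟨c, b, e2⟩ := lin two k1 k2 (comm_lin (div_ne_zero (mul_ne_zero two s0) hs) e1.symm)
  have e3 := E l
  rw [h2, e2] at e3
  have hb : b = 0 := by_contra fun hb => by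
    have e4 := (comm_lin hb e3).symm.trans k4
    have e5 : (2 : F) • (g * l.1) = 0 := by rw [two_smul]; nth_rw 1 [e4]; exact neg_add_cancel _
    have e6 := congrArg det ((smul_eq_zero.1 e5).resolve_left two)
    rw [det_mul, l.2, mul_one, det_zero] at e6
    exact k1 e6
  rw [hb, zero_smul, add_zero] at e2
  refine Subtype.ext (cancel_right m.det_ne_zero ?_)
  rw [E, e2]
  simp

end DA

/-- the outer automorphism group is abelian -/
theorem sl_comm (hF : Odd (Fintype.card F)) (h3 : 3 < Fintype.card F) (α β : MulAut SL(2, F)) :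
    ∃ g, ∀ x, (α * β * α⁻¹ * β⁻¹) x = g * x * g⁻¹ := by
  obtain ⟨g, σ, h⟩ := exists_ac hF α
  obtain ⟨m, ρ, k⟩ := exists_ac hF β
  have e1 := h.mul k
  have e2 := k.mul h
  rw [H67.ringAut_comm ρ σ] at e2
  have sq : ∀ (φ : RingAut F) (n : GL (Fin 2) F),
      ∃ c : F, c ≠ 0 ∧ (H67.glField (Fin 2) φ n).1.det = c ^ 2 * n.1.det := fun φ n => by
    refine exists_ratio (H67.glField (Fin 2) φ n).det_ne_zero n.det_ne_zero ?_
    rw [show (H67.glField (Fin 2) φ n).1.det = φ n.1.det from (RingHom.map_det (φ : F →+* F) n.1).symm]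
    exact ⟨fun s => by simpa using s.map φ.symm, fun s => s.map φ⟩
  obtain ⟨c, c0, hc⟩ := sq σ m
  obtain ⟨d, d0, hd⟩ := sq ρ g
  generalize H67.glField (Fin 2) σ m = m' at e1 hc
  generalize H67.glField (Fin 2) ρ g = g' at e2 hd
  obtain ⟨s, y, s0, hy⟩ := exists_sl (g * m' * (m * g')⁻¹).det_ne_zero ⟨c / d, by
    have := congrArg (fun n : GL (Fin 2) F => n.1.det) (inv_mul_cancel_right (g * m') (m * g'))
    simp only [Units.val_mul (_ * _⁻¹), det_mul] at this
    simp only [Units.val_mul g, Units.val_mul m, det_mul, hc, hd] at this ⊢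
    have g0 := g.det_ne_zero
    have m0 := m.det_ne_zero
    refine mul_right_cancel₀ (mul_ne_zero m0 (mul_ne_zero (pow_ne_zero 2 d0) g0)) (this.trans ?_)
    field_simp⟩
  refine ⟨y, fun x => ?_⟩
  obtain ⟨w, rfl⟩ := (β * α).surjective x
  have e3 : Matrix.SpecialLinearGroup.toGL ((α * β) w) * (g * m' * (m * g')⁻¹) =
      g * m' * (m * g')⁻¹ * Matrix.SpecialLinearGroup.toGL ((β * α) w) := by
    rw [e1, e2]; group
  have e4 := congrArg Units.val e3
  rw [Units.val_mul, Units.val_mul (g * m' * (m * g')⁻¹), hy, mul_smul_comm, smul_mul_assoc] at e4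
  rw [← MulAut.mul_apply, show α * β * α⁻¹ * β⁻¹ * (β * α) = α * β by group, eq_mul_inv_iff_mul_eq]
  exact Subtype.ext (smul_right_injective _ s0 e4)

/-- centralisers of non-central elements are abelian -/
theorem sl_cent {t x y : SL(2, F)} (h1 : t ≠ 1) (h2 : t ≠ -1) (hx : x * t = t * x)
    (hy : y * t = t * y) : x * y = y * x :=
  Subtype.ext (H46.Q.comm_of_comm_nonscalar (A := t.1) (fun ⟨e1, e2, e3⟩ =>
    (pm_of (a := t.1 0 0) (by ext i j; fin_cases i <;> fin_cases j <;> simp [e1, e2, e3])).elim h1 h2)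
    (congrArg Subtype.val hx).symm (congrArg Subtype.val hy).symm)

end H73.LU
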