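import Cfsg.Agent.Lib.LU4.W

/-! # The central product of two quaternion groups inside the dihedral wreath product -/

set_option autoImplicit false

namespace H73.LU

open Subgroup H13.PS DihedralGroup QuaternionGroup

variable {k : ℕ} {G : Type*} [Group G]

local notation "z" => zD k
local notation "c" => cq k

/-- the underlying map -/
def phiF (ψ : DG k × DG k →* G) (σ : G) : QG k × QG k → G
  | (a i, a j) => ψ (r (i - j), r (i + j))
  | (xa i, xa j) => ψ (sr (i - j - 2 * c), sr (i + j + 2 * c))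
  | (a i, xa j) => ψ (r (i + j), r (i - j - 2 * c)) * σ
  | (xa i, a j) => ψ (sr (i + j), sr (i + 2 * c - j)) * σ

/-- the automorphism of the quaternion group swapping the two classes of non-cyclic four-subgroups -/
def dl : QG k → QG k
  | a i => a (-i)
  | xa i => xa (1 - i)

theorem pe (ψ : DG k × DG k →* G) {x y x' y' : DG k} (h : x = x') (h' : y = y') :
    ψ (x, y) = ψ (x', y') := by rw [h, h']
theorem pe' (ψ : DG k × DG k →* G) (σ : G) {x y x' y' : DG k} (h : x = x') (h' : y = y') :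
    ψ (x, y) * σ = ψ (x', y') * σ := by rw [h, h']

/-- the central involution -/
abbrev ez (ψ : DG k × DG k →* G) : G := ψ (z, z)
/-- the central involution of the first factor -/
abbrev e1 (ψ : DG k × DG k →* G) : G := ψ (z, 1)
/-- the central involution of the second factor -/
abbrev e2 (ψ : DG k × DG k →* G) : G := ψ (1, z)
/-- the involution swapping the two quaternion groups -/
abbrev es (ψ : DG k × DG k →* G) : G := ψ (sr 0, 1)
/-- the involution acting as `dl` on both quaternion groups -/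
abbrev ed (ψ : DG k × DG k →* G) : G := ψ (sr 0, sr 1)

theorem dl_mul (x y : QG k) : dl (x * y) = dl x * dl y := by
  rcases x with i | i <;> rcases y with j | j <;>
    simp only [a_mul_a, a_mul_xa, QuaternionGroup.xa_mul_a, xx, dl] <;> congr 1 <;>
    first | ring1 | linear_combination -c4
theorem dl_dl (x : QG k) : dl (dl x) = x := by rcases x with i | i <;> simp [dl]
theorem dl_one : dl (1 : QG k) = 1 := congrArg a neg_zero
theorem dl_z : dl (z0 k) = z0 k := congrArg a (by linear_combination -c4)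
theorem dl_u : dl (u0 k) = u0 k * z0 k := congrArg a (by linear_combination -c4)

variable {ψ : DG k × DG k →* G} {σ : G}

namespace DW

variable (h : DW ψ σ)
include h

theorem phi_mul (p q : QG k × QG k) : phiF ψ σ (p * q) = phiF ψ σ p * phiF ψ σ q := by
  obtain ⟨i | i, j | j⟩ := p <;> obtain ⟨i' | i', j' | j'⟩ := q <;>
    simp only [Prod.mk_mul_mk, a_mul_a, a_mul_xa, QuaternionGroup.xa_mul_a, xx, phiF, qm, h.psp, h.pps,
      h.psps, r_mul_r, r_mul_sr, sr_mul_r, sr_mul_sr] <;>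
    (first | refine pe ψ ?_ ?_ | refine pe' ψ σ ?_ ?_) <;> congr 1 <;>
    first | ring1 | linear_combination c4 | linear_combination -c4

/-- the two quaternion groups -/
def phi : QG k × QG k →* G := MonoidHom.mk' (phiF ψ σ) h.phi_mul

theorem phi_aa (i j : ZM k) : h.phi (a i, a j) = ψ (r (i - j), r (i + j)) := rfl
theorem phi_xx (i j : ZM k) : h.phi (xa i, xa j) = ψ (sr (i - j - 2 * c), sr (i + j + 2 * c)) := rfl
theorem phi_ax (i j : ZM k) : h.phi (a i, xa j) = ψ (r (i + j), r (i - j - 2 * c)) * σ := rfl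
theorem phi_xa (i j : ZM k) : h.phi (xa i, a j) = ψ (sr (i + j), sr (i + 2 * c - j)) * σ := rfl

theorem s_phi (x y : QG k) : es ψ * h.phi (x, y) = h.phi (y, x) * es ψ := by
  rcases x with i | i <;> rcases y with j | j <;>
    simp only [phi_aa, phi_xx, phi_ax, phi_xa, qm, h.psp, h.pps, r_mul_sr, sr_mul_r, sr_mul_sr,
      one_mul, mul_one] <;>
    (first | refine pe ψ ?_ ?_ | refine pe' ψ σ ?_ ?_) <;> congr 1 <;>
    first | ring1 | linear_combination c4 | linear_combination -c4

theorem d_phi (x y : QG k) : ed ψ * h.phi (x, y) = h.phi (dl x, dl y) * ed ψ := by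
  rcases x with i | i <;> rcases y with j | j <;>
    simp only [dl, phi_aa, phi_xx, phi_ax, phi_xa, qm, h.psp, h.pps, r_mul_sr, sr_mul_r, sr_mul_sr] <;>
    (first | refine pe ψ ?_ ?_ | refine pe' ψ σ ?_ ?_) <;> congr 1 <;>
    first | ring1 | linear_combination c4 | linear_combination -c4

theorem ps : PS h.phi (es ψ) where
  ss := qsq ψ (sr_sq 0) (mul_one 1)
  sw := h.s_phi
  ker x y := by
    rcases x with i | i <;> rcases y with j | j
    · rw [phi_aa, h.eq1]
      constructor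
      · rintro ⟨e, e'⟩
        obtain rfl : i = j := sub_eq_zero.1 (r.inj e)
        rcases tor (x := i) (by linear_combination (r.inj e' : i + i = 0)) with rfl | rfl
        exacts [Or.inl ⟨rfl, rfl⟩, Or.inr ⟨rfl, rfl⟩]
      · rintro (⟨e, e'⟩ | ⟨e, e'⟩) <;> rw [a.inj e, a.inj e']
        exacts [⟨congrArg r (by ring), congrArg r (by ring)⟩,
          ⟨congrArg r (by ring), congrArg r (by linear_combination c4)⟩]
    · exact iff_of_false (fun e => h.ne (1, 1) _ ((q1 ψ).trans e.symm)) (by rintro (⟨-, ⟨⟩⟩ | ⟨-, ⟨⟩⟩))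
    · exact iff_of_false (fun e => h.ne (1, 1) _ ((q1 ψ).trans e.symm)) (by rintro (⟨⟨⟩, -⟩ | ⟨⟨⟩, -⟩))
    · exact iff_of_false (fun e => (sr_ne _).1 (h.eq1.1 e).1) (by rintro (⟨⟨⟩, -⟩ | ⟨⟨⟩, -⟩))

theorem cz_eq : cz h.phi = ez ψ := pe ψ (congrArg r (sub_zero _)) (congrArg r (add_zero _))
theorem ct_eq : ct h.phi = e2 ψ := pe ψ (congrArg r (sub_self _)) (congrArg r (by ring))
theorem e1_eq : h.phi (u0 k * z0 k, u0 k) = e1 ψ :=
  pe ψ (congrArg r (by ring)) (congrArg r (by linear_combination c4))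
theorem phi_u : h.phi (u0 k, 1) = ψ (r c, r c) := pe ψ (congrArg r (sub_zero _)) (congrArg r (add_zero _))
theorem phi_u' : h.phi (1, u0 k) = ψ (r (-c), r c) :=
  pe ψ (congrArg r (zero_sub _)) (congrArg r (zero_add _))
theorem phi_s : h.phi (u0 k, xa (-c)) = σ := by
  rw [u0, phi_ax, show c + -c = 0 by ring, show c - -c - 2 * c = 0 by ring]
  exact (congrArg (· * σ) (q1 ψ)).trans (one_mul σ)
theorem phi_mem (p : QG k × QG k) : h.phi p ∈ h.T := by
  obtain ⟨i | i, j | j⟩ := p
  exacts [h.p_mem _, ⟨_, _, Or.inr rfl⟩, ⟨_, _, Or.inr rfl⟩, h.p_mem _]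
theorem R_le : h.phi.range ≤ h.T := fun _ ⟨p, e⟩ => e ▸ h.phi_mem p
theorem S_le : h.ps.S ≤ h.T := h.ps.S_le h.phi_mem (h.p_mem _)
theorem rr_mem (i j : ZM k) : ψ (r i, r (i + 2 * j)) ∈ h.phi.range :=
  ⟨(a (i + j), a j), pe ψ (congrArg r (by ring)) (congrArg r (by ring))⟩
theorem ss_mem (i j : ZM k) : ψ (sr i, sr (i + 2 * j)) ∈ h.phi.range :=
  ⟨(xa (i + j), xa (j - 2 * c)), pe ψ (congrArg sr (by ring)) (congrArg sr (by ring))⟩
theorem s_memR : σ ∈ h.phi.range := ⟨_, h.phi_s⟩

/-- the four cosets of `R` in `T` -/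
theorem cases {g : G} (hg : g ∈ h.T) : g ∈ h.phi.range ∨ g * es ψ ∈ h.phi.range ∨
    g * ed ψ ∈ h.phi.range ∨ g * ψ (1, sr 1) ∈ h.phi.range := by
  have key : ∀ x y, ψ (x, y) ∈ h.phi.range ∨ ψ (x, y) * es ψ ∈ h.phi.range ∨
      ψ (x, y) * ed ψ ∈ h.phi.range ∨ ψ (x, y) * ψ (1, sr 1) ∈ h.phi.range := by
    rintro (i | i) (j | j) <;> obtain ⟨l, e | e⟩ := par (j - i) <;>
      obtain rfl := sub_eq_iff_eq_add'.1 e <;>
      simp only [qm, mul_one, r_mul_sr, sr_mul_sr]
    · exact Or.inl (h.rr_mem ..)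
    · exact Or.inr (Or.inr (Or.inl (by convert h.ss_mem (0 - i) (-l) using 4; ring)))
    · exact Or.inr (Or.inl (by convert h.ss_mem (0 - i) (i + l) using 4; ring))
    · exact Or.inr (Or.inr (Or.inr (by convert h.rr_mem i (-i - l) using 4; ring)))
    · exact Or.inr (Or.inl (by convert h.rr_mem (0 - i) (i + l) using 4; ring))
    · exact Or.inr (Or.inr (Or.inr (by convert h.ss_mem i (-i - l) using 4; ring)))
    · exact Or.inl (h.ss_mem ..)
    · exact Or.inr (Or.inr (Or.inl (by convert h.rr_mem (0 - i) (-l) using 4; ring)))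
  obtain ⟨x, y, rfl | rfl⟩ := hg
  · exact key x y
  · have e : ∀ p q, ψ (x, y) * σ * ψ (p, q) = σ * (ψ (y, x) * ψ (p, q)) := fun p q => by
      rw [← mul_assoc, h.sw]
    rw [e, e, e, ← h.sw]
    simp only [mul_mem_cancel_left h.s_memR]
    exact key y x

end DW

theorem auto_lemmas_Phi : True := by
  have := @DW.phi.eq_1.{0}
  have := @phiF.eq_1.{0}
  have := @dl.eq_1
  trivial

end H73.LU
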