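import Cfsg.Agent.Lib.PS4.S

/-! # The wreath product of a dihedral 2-group and a group of order two -/

set_option autoImplicit false

namespace H73.LU

open Subgroup H13.PS DihedralGroup

/-- the dihedral group of order `2 ^ (k + 3)` -/
abbrev DG (k : ℕ) : Type := DihedralGroup (2 * mq k)

variable {k : ℕ} {G : Type*} [Group G]

/-- the central involution -/
def zD (k : ℕ) : DG k := r (2 * cq k)

local notation "z" => zD k
local notation "c" => cq k

theorem zD_sq : z * z = 1 := congrArg r (by linear_combination c4)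
theorem zD_ne : z ≠ 1 := fun h => c2 (r.inj h)
theorem zD_comm (x : DG k) : x * z = z * x := by
  cases x
  exacts [congrArg r (add_comm _ _), congrArg sr (by linear_combination c4)]
theorem mzD (x : DG k) : x * z * z = x := by rw [mul_assoc, zD_sq, mul_one]
theorem zD_inv : z⁻¹ = z := inv_eq_of_mul_eq_one_right zD_sq
theorem zD_cj (x : DG k) : x * z * x⁻¹ = z := by rw [zD_comm, mul_inv_cancel_right]
theorem r_z (i : ZM k) : r i * z = r (i + 2 * c) := rfl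
theorem sr_z (i : ZM k) : sr i * z = sr (i + 2 * c) := rfl
theorem sr_sq (i : ZM k) : (sr i * sr i : DG k) = 1 := sr_mul_self i
theorem sr_ne (i : ZM k) : (sr i : DG k) ≠ 1 ∧ sr i ≠ z := ⟨nofun, nofun⟩
theorem rc_sq : (r c * r c : DG k) = z := congrArg r (by ring)
theorem par_ne (i j : ZM k) : 2 * i ≠ 2 * j + 1 := fun h => c2 (by
  linear_combination (-(2 * c)) * h + (i - j) * c4)

theorem r_tor {i : ZM k} (h : 2 * i = 0) : (r i : DG k) = 1 ∨ r i = z := by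
  rcases tor h with rfl | rfl
  exacts [Or.inl rfl, Or.inr rfl]

theorem invD {x : DG k} (h : x * x = 1) : x = 1 ∨ x = z ∨ ∃ i, x = sr i := by
  cases x with
  | r i => exact (r_tor (by have := r.inj h; linear_combination this)).imp_right Or.inl
  | sr i => exact Or.inr (Or.inr ⟨i, rfl⟩)

theorem comm_sr {i : ZM k} {x : DG k} (h : x * sr i = sr i * x) :
    x = 1 ∨ x = z ∨ x = sr i ∨ x = sr i * z := by
  cases x with
  | r j => exact (r_tor (by have := sr.inj h; linear_combination -this)).imp_right Or.inl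
  | sr j =>
    rcases tor (x := j - i) (by have := r.inj h; linear_combination -this) with e | e
    exacts [Or.inr (Or.inr (Or.inl (congrArg sr (by linear_combination e)))),
      Or.inr (Or.inr (Or.inr (congrArg sr (by linear_combination e))))]

theorem comm_r {i : ZM k} {x : DG k} (h : x * r i = r i * x) :
    (∃ j, x = r j) ∨ r i = (1 : DG k) ∨ r i = z := by
  cases x with
  | r j => exact Or.inl ⟨j, rfl⟩
  | sr j => exact Or.inr (r_tor (by have := sr.inj h; linear_combination this))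

theorem centD {x : DG k} (h0 : x * sr 0 = sr 0 * x) (h1 : x * sr 1 = sr 1 * x) : x = 1 ∨ x = z := by
  cases x with
  | r j => exact r_tor (by have := sr.inj h0; linear_combination -this)
  | sr j =>
    have a := r.inj h0
    have b := r.inj h1
    exact absurd (by linear_combination c * b - c * a) (c2 (k := k))

theorem r_cj (j i : ZM k) : (r j * sr i * (r j)⁻¹ : DG k) = sr (i - 2 * j) := congrArg sr (by ring)

theorem genD {K : Subgroup (DG k)} (h0 : sr 0 ∈ K) (h1 : sr 1 ∈ K) (x : DG k) : x ∈ K := by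
  have h2 : ∀ i : ZM k, r i ∈ K := fun i => by
    have := pow_mem (mul_mem h0 h1) i.val
    rwa [sr_mul_sr, sub_zero, r_one_pow, ZMod.natCast_zmod_val] at this
  cases x with
  | r i => exact h2 i
  | sr i => simpa using mul_mem h0 (h2 i)

theorem card_DG : Nat.card (DG k) = 2 ^ (k + 3) := by
  rw [DihedralGroup.nat_card, mq]; ring

theorem two_DG : IsPGroup 2 (DG k) := IsPGroup.of_card card_DG

theorem pow_half (x : DG k) : x ^ 2 ^ (k + 1) = 1 ∨ x ^ 2 ^ (k + 1) = z := by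
  cases x with
  | r i =>
    have e : (r i : DG k) ^ 2 ^ (k + 1) = r (i * (2 * c)) := by
      rw [r_pow, cq]; push_cast; ring_nf
    obtain ⟨j, rfl | rfl⟩ := par i <;> rw [e]
    exacts [Or.inl (congrArg r (by linear_combination j * c4)),
      Or.inr (congrArg r (by linear_combination j * c4))]
  | sr i => exact Or.inl (by rw [pow_succ', pow_mul, pow_two, sr_sq, one_pow])

theorem r1_half : (r 1 : DG k) ^ 2 ^ (k + 1) = z := by
  rw [r_pow, zD, cq]; push_cast; ring_nf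

theorem r2_pow : (r 2 : DG k) ^ 2 ^ k = z := by
  rw [r_pow, zD, cq]; push_cast; ring_nf

/-- The wreath product inside a group. -/
structure DW (ψ : DG k × DG k →* G) (σ : G) : Prop where
  inj : Function.Injective ψ
  ss : σ * σ = 1
  sw : ∀ x y, σ * ψ (x, y) = ψ (y, x) * σ

variable {ψ : DG k × DG k →* G} {σ : G}

theorem qm (ψ : DG k × DG k →* G) (x y x' y' : DG k) :
    ψ (x, y) * ψ (x', y') = ψ (x * x', y * y') := (map_mul ψ _ _).symm
theorem qi (ψ : DG k × DG k →* G) (x y : DG k) : (ψ (x, y))⁻¹ = ψ (x⁻¹, y⁻¹) := (map_inv ψ _).symm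
theorem qp (ψ : DG k × DG k →* G) (x y : DG k) (n : ℕ) : ψ (x, y) ^ n = ψ (x ^ n, y ^ n) :=
  (map_pow ψ _ _).symm
theorem q1 (ψ : DG k × DG k →* G) : ψ (1, 1) = 1 := map_one ψ
theorem qc (ψ : DG k × DG k →* G) (x y x' y' : DG k) :
    ψ (x, y) * ψ (x', y') * (ψ (x, y))⁻¹ = ψ (x * x' * x⁻¹, y * y' * y⁻¹) := by rw [qi, qm, qm]
theorem qsq (ψ : DG k × DG k →* G) {x y : DG k} (h : x * x = 1) (h' : y * y = 1) :
    ψ (x, y) * ψ (x, y) = 1 := by rw [qm, h, h', q1]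
theorem qcm (ψ : DG k × DG k →* G) {x y x' y' : DG k} (h : x * x' = x' * x) (h' : y * y' = y' * y) :
    ψ (x, y) * ψ (x', y') = ψ (x', y') * ψ (x, y) := by rw [qm, h, h', qm]

namespace DW

/-- the wreath product as a subgroup -/
def T (h : DW ψ σ) : Subgroup G where
  carrier := {g | ∃ x y, g = ψ (x, y) ∨ g = ψ (x, y) * σ}
  one_mem' := ⟨1, 1, Or.inl (q1 ψ).symm⟩
  mul_mem' := by
    rintro _ _ ⟨x, y, rfl | rfl⟩ ⟨x', y', rfl | rfl⟩
    · exact ⟨_, _, Or.inl (qm ..)⟩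
    · exact ⟨_, _, Or.inr (by rw [← mul_assoc, qm])⟩
    · exact ⟨_, _, Or.inr (by rw [mul_assoc, h.sw, ← mul_assoc, qm])⟩
    · exact ⟨_, _, Or.inl (by
        rw [mul_assoc, ← mul_assoc σ, h.sw, mul_assoc, h.ss, mul_one, qm])⟩
  inv_mem' := by
    rintro _ ⟨x, y, rfl | rfl⟩
    · exact ⟨_, _, Or.inl (qi ..)⟩
    · exact ⟨_, _, Or.inr (by rw [mul_inv_rev, inv_eq_of_mul_eq_one_right h.ss, qi, h.sw])⟩

variable (h : DW ψ σ)
include h

theorem s_inv : σ⁻¹ = σ := inv_eq_of_mul_eq_one_right h.ss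
theorem sc (x y : DG k) : σ * ψ (x, y) * σ⁻¹ = ψ (y, x) := by rw [h.sw, mul_inv_cancel_right]
theorem psp (x y x' y' : DG k) : ψ (x, y) * σ * ψ (x', y') = ψ (x * y', y * x') * σ := by
  rw [mul_assoc, h.sw, ← mul_assoc, qm]
set_option linter.unusedSectionVars false in
theorem pps (x y x' y' : DG k) : ψ (x, y) * (ψ (x', y') * σ) = ψ (x * x', y * y') * σ := by
  rw [← mul_assoc, qm]
theorem psps (x y x' y' : DG k) : ψ (x, y) * σ * (ψ (x', y') * σ) = ψ (x * y', y * x') := by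
  rw [← mul_assoc, h.psp, mul_assoc, h.ss, mul_one]
theorem psi (x y : DG k) : (ψ (x, y) * σ)⁻¹ = ψ (y⁻¹, x⁻¹) * σ := by
  rw [mul_inv_rev, h.s_inv, qi, h.sw]
theorem psc (x y x' y' : DG k) :
    ψ (x, y) * σ * ψ (x', y') * (ψ (x, y) * σ)⁻¹ = ψ (x * y' * x⁻¹, y * x' * y⁻¹) := by
  rw [h.psi, h.psp, h.psps]
theorem eq {x y x' y' : DG k} : ψ (x, y) = ψ (x', y') ↔ x = x' ∧ y = y' :=
  h.inj.eq_iff.trans Prod.ext_iff
theorem eq1 {x y : DG k} : ψ (x, y) = 1 ↔ x = 1 ∧ y = 1 := by rw [← q1 ψ, h.eq]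
theorem comm {x y x' y' : DG k} : ψ (x, y) * ψ (x', y') = ψ (x', y') * ψ (x, y) ↔
    x * x' = x' * x ∧ y * y' = y' * y := by rw [qm, qm, h.eq]
theorem s_ne (p : DG k × DG k) : ψ p ≠ σ := fun e => by
  have := h.sw z 1
  rw [← e, ← map_mul, ← map_mul, h.inj.eq_iff] at this
  have := congrArg Prod.fst this
  exact zD_ne (k := k) (by simpa using this)
theorem ne (p q : DG k × DG k) : ψ p ≠ ψ q * σ := fun e =>
  h.s_ne (q⁻¹ * p) (by rw [map_mul, map_inv, e, inv_mul_cancel_left])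
theorem p_mem (p : DG k × DG k) : ψ p ∈ h.T := ⟨p.1, p.2, Or.inl rfl⟩
theorem s_mem : σ ∈ h.T := ⟨1, 1, Or.inr (by rw [q1, one_mul])⟩
theorem B_le : ψ.range ≤ h.T := fun _ ⟨p, e⟩ => e ▸ h.p_mem p
theorem T_le {K : Subgroup G} (h1 : ∀ p, ψ p ∈ K) (h2 : σ ∈ K) : h.T ≤ K := by
  rintro _ ⟨x, y, rfl | rfl⟩
  exacts [h1 _, mul_mem (h1 _) h2]
theorem out {g : G} (hg : g ∈ h.T) (hn : g ∉ ψ.range) : ∃ x y, g = ψ (x, y) * σ := by
  obtain ⟨x, y, rfl | e⟩ := hg
  exacts [absurd ⟨_, rfl⟩ hn, ⟨x, y, e⟩]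
theorem notMem (p : DG k × DG k) : ψ p * σ ∉ ψ.range := fun ⟨q, e⟩ => h.ne q p e
omit h in
theorem twoB (ψ : DG k × DG k →* G) : IsPGroup 2 ψ.range :=
  (IsPGroup.of_card (p := 2) (n := k + 3 + (k + 3)) (by rw [Nat.card_prod, card_DG, ← pow_add])).of_surjective
    _ ψ.rangeRestrict_surjective
theorem two : IsPGroup 2 h.T := fun ⟨g, hg⟩ => by
  have : g * g ∈ ψ.range := by
    obtain ⟨x, y, rfl | rfl⟩ := hg
    exacts [⟨_, (qm ..).symm⟩, ⟨_, (h.psps ..).symm⟩]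
  obtain ⟨n, e⟩ := twoB ψ ⟨_, this⟩
  exact ⟨n + 1, Subtype.ext (by
    have := congrArg Subtype.val e
    simp only [SubmonoidClass.coe_pow] at this ⊢
    rwa [pow_succ', pow_mul, pow_two])⟩
theorem idx : ψ.range.relIndex h.T = 2 :=
  relIndex_eq_two_iff_exists_notMem_and.2 ⟨σ, h.s_mem, fun ⟨p, e⟩ => h.s_ne p e, fun b hb => by
    obtain ⟨x, y, rfl | rfl⟩ := hb
    exacts [Or.inr ⟨_, rfl⟩, Or.inl (by rw [mul_assoc, h.ss, mul_one]; exact ⟨_, rfl⟩)]⟩
theorem s_d (x : DG k) : σ * ψ (x, x) = ψ (x, x) * σ := h.sw x x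
theorem zc {g : G} (hg : g ∈ h.T) : g * ψ (z, z) = ψ (z, z) * g := by
  obtain ⟨x, y, rfl | rfl⟩ := hg
  exacts [qcm ψ (zD_comm x) (zD_comm y), by rw [h.psp, h.pps, zD_comm x, zD_comm y]]
theorem z_ne : ψ (z, z) ≠ 1 := fun e => zD_ne (h.eq1.1 e).1
theorem center {g : G} (hg : g ∈ h.T) (e : ∀ t ∈ h.T, t * g = g * t) : g = 1 ∨ g = ψ (z, z) := by
  obtain ⟨x, y, rfl | rfl⟩ := hg
  · have h1 := e _ h.s_mem
    rw [h.sw, mul_left_inj, h.eq] at h1
    obtain ⟨rfl, -⟩ := h1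
    exact (centD (h.comm.1 (e _ (h.p_mem (sr 0, 1)))).1.symm
      (h.comm.1 (e _ (h.p_mem (sr 1, 1)))).1.symm).imp (fun d => by rw [d, q1]) fun d => by rw [d]
  · have h1 := e _ (h.p_mem (z, 1))
    rw [h.pps, h.psp, mul_left_inj, h.eq, mul_one, mul_eq_right] at h1
    exact absurd h1.1 zD_ne
theorem cj_s (x : DG k) : ψ (x, 1) * σ * (ψ (x, 1))⁻¹ = ψ (x, x⁻¹) * σ := by
  rw [qi, h.psp]; simp
theorem inv_out {g : G} (hg : g ∈ h.T) (hn : g ∉ ψ.range) (e : g * g = 1) :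
    ∃ x, g = ψ (x, 1) * σ * (ψ (x, 1))⁻¹ := by
  obtain ⟨x, y, rfl⟩ := h.out hg hn
  rw [h.psps, h.eq1] at e
  exact ⟨x, by rw [h.cj_s, eq_inv_of_mul_eq_one_right e.1]⟩
theorem invB {x y : DG k} (e : ψ (x, y) * ψ (x, y) = 1) : x * x = 1 ∧ y * y = 1 := by
  rwa [qm, h.eq1] at e
theorem cent_z1 {g : G} (hg : g ∈ h.T) (e : g * ψ (z, 1) = ψ (z, 1) * g) : g ∈ ψ.range :=
  by_contra fun n => by
    obtain ⟨x, y, rfl⟩ := h.out hg n
    rw [h.pps, h.psp, mul_left_inj, h.eq, mul_one, eq_comm, mul_eq_right] at e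
    exact zD_ne e.1
theorem cent_z2 {g : G} (hg : g ∈ h.T) (e : g * ψ (1, z) = ψ (1, z) * g) : g ∈ ψ.range :=
  by_contra fun n => by
    obtain ⟨x, y, rfl⟩ := h.out hg n
    rw [h.pps, h.psp, mul_left_inj, h.eq, one_mul, mul_eq_left] at e
    exact zD_ne e.1
theorem map {X : Type*} [Group X] (π : G →* X) (hπ : ∀ p, π (ψ p) = 1 → ψ p = 1) :
    DW (π.comp ψ) (π σ) where
  inj := (injective_iff_map_eq_one _).2 fun p e => (map_eq_one_iff _ h.inj).1 (hπ p e)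
  ss := by rw [← map_mul, h.ss, map_one]
  sw x y := by simp only [MonoidHom.comp_apply, ← map_mul, h.sw]
theorem map_T {X : Type*} [Group X] (π : G →* X) (hπ : ∀ p, π (ψ p) = 1 → ψ p = 1) :
    (h.map π hπ).T = h.T.map π := by
  ext g
  constructor
  · rintro ⟨x, y, rfl | rfl⟩
    exacts [⟨_, h.p_mem (x, y), rfl⟩, ⟨_, ⟨x, y, Or.inr rfl⟩, map_mul ..⟩]
  · rintro ⟨_, ⟨x, y, rfl | rfl⟩, rfl⟩
    exacts [⟨x, y, Or.inl rfl⟩, ⟨x, y, Or.inr (map_mul ..)⟩]
theorem restr {H : Subgroup G} (hH : h.T ≤ H) :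
    DW (ψ.codRestrict H fun p => hH (h.p_mem p)) ⟨σ, hH h.s_mem⟩ where
  inj _ _ e := h.inj (congrArg Subtype.val e)
  ss := Subtype.ext h.ss
  sw x y := Subtype.ext (h.sw x y)
theorem restr_T {H : Subgroup G} (hH : h.T ≤ H) : (h.restr hH).T = h.T.subgroupOf H := by
  ext ⟨g, hg⟩
  simp only [mem_subgroupOf, T, mem_mk, Submonoid.mem_mk, Subsemigroup.mem_mk, Set.mem_ofPred_eq,
    Subtype.ext_iff]
  rfl
theorem card_T : Nat.card h.T = 2 ^ (2 * k + 7) := by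
  have h1 := (ψ.range.subgroupOf h.T).index_mul_card
  rw [show (ψ.range.subgroupOf h.T).index = 2 from h.idx,
    Nat.card_congr (subgroupOfEquivOfLe h.B_le).toEquiv,
    ← Nat.card_congr (MonoidHom.ofInjective h.inj).toEquiv, Nat.card_prod, card_DG] at h1
  rw [← h1]; ring

end DW

theorem auto_lemmas_W : True := by
  have := @zD.eq_1
  have := @DW.T.eq_1.{0}
  trivial

end H73.LU
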